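import Groth.Agent.Hensel.TensorHenzFinite
import Groth.Agent.Hensel.HenselizationNormal
import Groth.Agent.Hensel.HenselizationDescent
import Groth.Agent.BrnchLib.EtNbhdAlg
import Mathlib.RingTheory.Ideal.GoingUp

/-!
# Branches along a finite extension of a normal domain

If `S` is a finite domain extension of the domain `R`, `R_p` is normal and `q` lies over `p`, then a
henselization of `R_p` embeds into one of `S_q`, and the extension is finite. Hence branches of a
closed set through `p` lift to branches of its preimage through `q`.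
-/

noncomputable section

universe u

namespace Groth.Agent.H26.Brn

open IsLocalRing TensorProduct

theorem branches_le_atPrime (R S : Type u) [CommRing R] [IsDomain R] [CommRing S] [IsDomain S] [Algebra R S]
    [Module.Finite R S] (hinj : Function.Injective (algebraMap R S))
    (p : Ideal R) [p.IsPrime] (q : Ideal S) [q.IsPrime] [q.LiesOver p]
    [IsIntegrallyClosed (Localization.AtPrime p)]
    (I : Ideal (Localization.AtPrime p)) [IsLocalRing (Localization.AtPrime p ⧸ I)]
    (K : Ideal (Localization.AtPrime q)) [IsLocalRing (Localization.AtPrime q ⧸ K)]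
    (h1 : ∀ Q : Ideal (Localization.AtPrime q), Q.IsPrime → K ≤ Q →
      I ≤ Q.comap (Localization.localRingHom p q (algebraMap R S) (q.over_def p)))
    (h2 : ∀ Q : Ideal (Localization.AtPrime q), Q.IsPrime →
      Q.comap (Localization.localRingHom p q (algebraMap R S) (q.over_def p)) ∈ I.minimalPrimes → K ≤ Q) :
    Brnch.numBranches (Localization.AtPrime p ⧸ I) ≤ Brnch.numBranches (Localization.AtPrime q ⧸ K) := by
  let Rp := Localization.AtPrime p
  let Sq := Localization.AtPrime q
  let Rh := Hensel.LocalHenz Rp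
  let Sh := Hensel.LocalHenz Sq
  haveI : HenselianLocalRing Rh := _root_.Hensel.IsHenselization.henselian (R := Rp)
  haveI : HenselianLocalRing Sh := _root_.Hensel.IsHenselization.henselian (R := Sq)
  letI : Algebra R Rh := ((algebraMap Rp Rh).comp (algebraMap R Rp)).toAlgebra
  haveI : IsScalarTower R Rp Rh := .of_algebraMap_eq' rfl
  letI : Algebra S Sh := ((algebraMap Sq Sh).comp (algebraMap S Sq)).toAlgebra
  haveI : IsScalarTower S Sq Sh := .of_algebraMap_eq' rfl
  letI : Algebra R Sh := ((algebraMap S Sh).comp (algebraMap R S)).toAlgebra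
  haveI : IsScalarTower R S Sh := .of_algebraMap_eq' rfl
  have hf : (maximalIdeal Sh).comap (algebraMap R Sh) = p := by
    rw [IsScalarTower.algebraMap_eq R S Sh, ← Ideal.comap_comap, Hensel.comap_algebraMap_atPrime S q Sh]
    exact (q.over_def p).symm
  obtain ⟨g, hg, hgloc⟩ := Hensel.henz_lift (Rh := Rh) (algebraMap R Sh) hf
  letI : Algebra Rh Sh := g.toAlgebra
  haveI : IsScalarTower R Rh Sh := .of_algebraMap_eq' hg.symm
  haveI : IsLocalHom (algebraMap Rh Sh) := hgloc
  haveI : Module.Finite Rh Sh := Hensel.finite_henz R S p q Rh Sh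
  haveI : Module.Flat Rp Rh := (Hensel.faithfullyFlat_of_isHenselization Rp Rh).toFlat
  haveI : Module.Flat R Rh := Module.Flat.trans R Rp Rh
  have hnorm := (Hensel.isHenzLike_of_isHenselization (R := Rp) (S := Rh)).normal_iff.1
    ⟨inferInstance, inferInstance⟩
  haveI : IsDomain Rh := hnorm.1
  -- torsion-freeness of the tensor product
  have htf : ∀ a : Rh, a ≠ 0 → ∀ s : Rh ⊗[R] S, algebraMap Rh (Rh ⊗[R] S) a * s = 0 → s = 0 := by
    intro a ha s hs
    let L := FractionRing S
    haveI : FaithfulSMul R S := (faithfulSMul_iff_algebraMap_injective R S).2 hinj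
    haveI : FaithfulSMul R L := (faithfulSMul_iff_algebraMap_injective R L).2 (by
      rw [IsScalarTower.algebraMap_eq R S L]
      exact (IsFractionRing.injective S L).comp hinj)
    letI := FractionRing.liftAlgebra R L
    haveI : IsScalarTower R (FractionRing R) L := FractionRing.isScalarTower_liftAlgebra R L
    haveI : Module.Flat R (FractionRing R) := IsLocalization.flat (FractionRing R) (nonZeroDivisors R)
    haveI : Module.Flat R L := Module.Flat.trans R (FractionRing R) L
    let m : Rh →ₗ[R] Rh := LinearMap.mulLeft R a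
    have hm : Function.Injective (m.rTensor L) :=
      Module.Flat.rTensor_preserves_injective_linearMap m (mul_right_injective₀ ha)
    let i : S →ₗ[R] L := (IsScalarTower.toAlgHom R S L).toLinearMap
    have hi : Function.Injective (i.lTensor Rh) :=
      Module.Flat.lTensor_preserves_injective_linearMap i (IsFractionRing.injective S L)
    have hcomm : ∀ x : Rh ⊗[R] S, i.lTensor Rh (algebraMap Rh (Rh ⊗[R] S) a * x) = m.rTensor L (i.lTensor Rh x) := by
      intro x
      induction x using TensorProduct.induction_on with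
      | zero => simp
      | tmul b t => simp [m, Algebra.TensorProduct.algebraMap_apply]
      | add x y hx hy => rw [mul_add, map_add, hx, hy, map_add, map_add]
    apply hi
    apply hm
    rw [← hcomm, hs]
    simp
  -- injectivity of the map of henselizations
  have hginj : Function.Injective (algebraMap Rh Sh) := by
    have := Hensel.liesOver_tensorPrime R S p q Rh Sh
    have := Hensel.quasiFiniteAt_tensorPrime R S p q Rh Sh
    have := Hensel.exists_finite_localization_of_quasiFiniteAt Rh (Hensel.tensorPrime R S Rh Sh)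
    obtain ⟨e⟩ := Hensel.algEquiv_henz R S p q Rh Sh (Hensel.henselianLocalRing_of_finite Rh _)
    rw [injective_iff_map_eq_zero]
    intro a ha
    by_contra hne
    have h0 : algebraMap Rh (Localization.AtPrime (Hensel.tensorPrime R S Rh Sh)) a = 0 :=
      e.injective (by rw [e.commutes, ha, map_zero])
    rw [IsScalarTower.algebraMap_apply Rh (Rh ⊗[R] S),
      IsLocalization.map_eq_zero_iff (Hensel.tensorPrime R S Rh Sh).primeCompl] at h0
    obtain ⟨s, hs⟩ := h0
    have := htf a hne s (by rw [mul_comm]; exact hs)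
    exact s.2 (this ▸ Ideal.zero_mem _)
  haveI : FaithfulSMul Rh Sh := (faithfulSMul_iff_algebraMap_injective Rh Sh).2 hginj
  -- compatibility of the maps
  let f' := Localization.localRingHom p q (algebraMap R S) (q.over_def p)
  have hsq : (algebraMap Sq Sh).comp f' = (algebraMap Rh Sh).comp (algebraMap Rp Rh) := by
    refine IsLocalization.ringHom_ext p.primeCompl (RingHom.ext fun r => ?_)
    show algebraMap Sq Sh (f' (algebraMap R Rp r)) = g (algebraMap Rp Rh (algebraMap R Rp r))
    rw [Localization.localRingHom_to_map]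
    exact (RingHom.congr_fun hg r).symm
  rw [← BrnchLib.EtNbhd.encard_eq_numBranches Rp Rh I, ← BrnchLib.EtNbhd.encard_eq_numBranches Sq Sh K]
  refine (Set.encard_le_encard (t := Ideal.comap (algebraMap Rh Sh) '' (K.map (algebraMap Sq Sh)).minimalPrimes)
    fun q₀ hq₀ => ?_).trans (Set.encard_image_le _ _)
  haveI := hq₀.1.1
  obtain ⟨Q, -, hQp, hQ⟩ := Ideal.exists_ideal_over_prime_of_isIntegral q₀ (⊥ : Ideal Sh) (by
    rw [← RingHom.ker_eq_comap_bot, (RingHom.injective_iff_ker_eq_bot _).1 hginj]; exact bot_le)
  haveI := hQp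
  have hmin : q₀.comap (algebraMap Rp Rh) ∈ I.minimalPrimes := by
    refine BrnchLib.EtNbhd.comap_mem (algebraMap Rp Rh) ?_ I hq₀
    convert Hensel.faithfullyFlat_of_isHenselization Rp Rh using 2
    exact Algebra.algebra_ext _ _ fun _ => rfl
  have hKQ : K ≤ Q.comap (algebraMap Sq Sh) := by
    refine h2 _ inferInstance ?_
    show (Q.comap (algebraMap Sq Sh)).comap f' ∈ _
    rw [Ideal.comap_comap, hsq, ← Ideal.comap_comap, hQ]
    exact hmin
  refine ⟨Q, ⟨⟨hQp, Ideal.map_le_iff_le_comap.2 hKQ⟩, fun Q' hQ' hle => ?_⟩, hQ⟩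
  haveI := hQ'.1
  have hI : I.map (algebraMap Rp Rh) ≤ Q'.comap (algebraMap Rh Sh) := by
    rw [Ideal.map_le_iff_le_comap, Ideal.comap_comap, ← hsq, ← Ideal.comap_comap]
    exact h1 _ inferInstance (Ideal.map_le_iff_le_comap.1 hQ'.2)
  by_contra hne
  have hlt : Q' < Q := lt_of_le_of_ne hle fun h => hne (h ▸ le_rfl)
  have h3 : Q'.comap (algebraMap Rh Sh) < Q.comap (algebraMap Rh Sh) :=
    Ideal.IsIntegral.comap_lt_comap hlt
  exact h3.not_ge (hQ ▸ hq₀.2 ⟨inferInstance, hI⟩ (hQ ▸ h3.le))

end Groth.Agent.H26.Brn
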