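import Groth.Agent.H26.Brnch.FiniteLe
import Groth.Prelude.Def_Pi1
import Mathlib.AlgebraicGeometry.Morphisms.Finite
import Mathlib.AlgebraicGeometry.Morphisms.ClosedImmersion

/-!
# Branches of closed subsets along a finite morphism
-/

noncomputable section

universe u

namespace Groth.Agent.H26.Brn

open CategoryTheory AlgebraicGeometry IsLocalRing TopologicalSpace PrimeSpectrum

/-- The branches of a closed subscheme in terms of an ideal of the ambient local ring. -/
theorem exists_ideal {X D : Scheme.{u}} (ι : D ⟶ X) [IsClosedImmersion ι] (d : D) (x : X) (hd : ι.base d = x) :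
    ∃ (I : Ideal (X.presheaf.stalk x)) (_ : IsLocalRing (X.presheaf.stalk x ⧸ I)),
      Brnch.numBranchesAt D d = Brnch.numBranches (X.presheaf.stalk x ⧸ I) ∧
      ∀ Q : PrimeSpectrum (X.presheaf.stalk x),
        I ≤ Q.asIdeal ↔ X.fromSpecStalk x Q ∈ Set.range ι.base := by
  subst hd
  have hs : Function.Surjective (ι.stalkMap d).hom := ι.stalkMap_surjective d
  let e := RingHom.quotientKerEquivOfSurjective hs
  haveI : IsLocalRing (X.presheaf.stalk (ι.base d) ⧸ RingHom.ker (ι.stalkMap d).hom) := e.symm.isLocalRing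
  refine ⟨RingHom.ker (ι.stalkMap d).hom, inferInstance, (BrnchLib.EtNbhd.numBranches_congr e).symm, fun Q => ?_⟩
  have hcomp := Scheme.SpecMap_stalkMap_fromSpecStalk ι (x := d)
  have hz : Q ∈ Set.range (PrimeSpectrum.comap (ι.stalkMap d).hom) ↔ RingHom.ker (ι.stalkMap d).hom ≤ Q.asIdeal := by
    rw [range_comap_of_surjective _ _ hs, PrimeSpectrum.mem_zeroLocus, SetLike.coe_subset_coe]
  rw [← hz]
  constructor
  · rintro ⟨Q', rfl⟩
    exact ⟨D.fromSpecStalk d Q', (congr($hcomp Q')).symm⟩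
  · rintro ⟨y, hy⟩
    have hyd : y ⤳ d := ι.isClosedEmbedding.isInducing.specializes_iff.1 (hy ▸ by
      have h : X.fromSpecStalk (ι.base d) Q ∈ Set.range (X.fromSpecStalk (ι.base d)) := ⟨Q, rfl⟩
      rw [Scheme.range_fromSpecStalk] at h
      exact h)
    obtain ⟨Q', rfl⟩ : y ∈ Set.range (D.fromSpecStalk d) := by rwa [Scheme.range_fromSpecStalk]
    exact ⟨Q', (X.fromSpecStalk (ι.base d)).isEmbedding.injective ((congr($hcomp Q')).trans hy)⟩

/-- The branches at a point of a finite surjective cover of a normal integral scheme dominate those below. -/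
theorem branches_le_stalk {W Z : Scheme.{u}} (ψ : W ⟶ Z) [IsFinite ψ] [Surjective ψ] [IsIntegral W] [IsIntegral Z]
    (w : W) [IsIntegrallyClosed (Z.presheaf.stalk (ψ.base w))]
    (I : Ideal (Z.presheaf.stalk (ψ.base w))) [IsLocalRing (Z.presheaf.stalk (ψ.base w) ⧸ I)]
    (K : Ideal (W.presheaf.stalk w)) [IsLocalRing (W.presheaf.stalk w ⧸ K)]
    (h1 : ∀ Q : Ideal (W.presheaf.stalk w), Q.IsPrime → K ≤ Q → I ≤ Q.comap (ψ.stalkMap w).hom)
    (h2 : ∀ Q : Ideal (W.presheaf.stalk w), Q.IsPrime →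
      Q.comap (ψ.stalkMap w).hom ∈ I.minimalPrimes → K ≤ Q) :
    Brnch.numBranches (Z.presheaf.stalk (ψ.base w) ⧸ I) ≤ Brnch.numBranches (W.presheaf.stalk w ⧸ K) := by
  obtain ⟨U, hU, hzU, -⟩ := exists_isAffineOpen_mem_and_subset (U := (⊤ : Z.Opens)) (x := ψ.base w) trivial
  have hV : IsAffineOpen (ψ ⁻¹ᵁ U) := hU.preimage ψ
  haveI : Nonempty U := ⟨⟨ψ.base w, hzU⟩⟩
  haveI : Nonempty (ψ ⁻¹ᵁ U : W.Opens) := ⟨⟨w, hzU⟩⟩
  letI : Algebra Γ(Z, U) Γ(W, ψ ⁻¹ᵁ U) := (ψ.app U).hom.toAlgebra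
  haveI : Module.Finite Γ(Z, U) Γ(W, ψ ⁻¹ᵁ U) := ψ.finite_app U hU
  have hinj : Function.Injective (algebraMap Γ(Z, U) Γ(W, ψ ⁻¹ᵁ U)) := by
    rw [injective_iff_map_eq_zero]
    intro r hr
    rw [← AlgebraicGeometry.basicOpen_eq_bot_iff]
    have h0 : ψ ⁻¹ᵁ Z.basicOpen r = ⊥ := by
      rw [Scheme.preimage_basicOpen, show ψ.app U r = 0 from hr]
      exact W.basicOpen_zero (U := ψ ⁻¹ᵁ U)
    ext y
    simp only [Opens.coe_bot, Set.mem_empty_iff_false, iff_false]
    intro hy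
    obtain ⟨x, rfl⟩ := ψ.surjective y
    exact (Set.ext_iff.1 (congrArg (fun V : W.Opens => (V : Set W)) h0) x).1 hy
  let p := hU.primeIdealOf ⟨ψ.base w, hzU⟩
  let q := hV.primeIdealOf ⟨w, hzU⟩
  haveI hq : q.asIdeal.LiesOver p.asIdeal := ⟨by
    have h := IsAffineOpen.comap_primeIdealOf_appLE U hU (ψ ⁻¹ᵁ U) hV le_rfl (f := ψ) (x := w) hzU
    rw [Scheme.Hom.appLE_eq_app] at h
    exact congr(PrimeSpectrum.asIdeal $h.symm)⟩
  letI : Algebra Γ(Z, U) (Z.presheaf.stalk (ψ.base w)) :=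
    TopCat.Presheaf.algebra_section_stalk Z.presheaf (⟨ψ.base w, hzU⟩ : U)
  letI : Algebra Γ(W, ψ ⁻¹ᵁ U) (W.presheaf.stalk w) :=
    TopCat.Presheaf.algebra_section_stalk W.presheaf (⟨w, hzU⟩ : (ψ ⁻¹ᵁ U : W.Opens))
  haveI : IsLocalization.AtPrime (Z.presheaf.stalk (ψ.base w)) p.asIdeal := hU.isLocalization_stalk ⟨_, hzU⟩
  haveI : IsLocalization.AtPrime (W.presheaf.stalk w) q.asIdeal := hV.isLocalization_stalk ⟨w, hzU⟩
  let eA : Localization.AtPrime p.asIdeal ≃+* Z.presheaf.stalk (ψ.base w) :=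
    (IsLocalization.algEquiv p.asIdeal.primeCompl _ _).toRingEquiv
  let eB : Localization.AtPrime q.asIdeal ≃+* W.presheaf.stalk w :=
    (IsLocalization.algEquiv q.asIdeal.primeCompl _ _).toRingEquiv
  have hsq : eB.toRingHom.comp (Localization.localRingHom p.asIdeal q.asIdeal (algebraMap Γ(Z, U) Γ(W, ψ ⁻¹ᵁ U))
      (q.asIdeal.over_def p.asIdeal)) = (ψ.stalkMap w).hom.comp eA.toRingHom := by
    refine IsLocalization.ringHom_ext p.asIdeal.primeCompl (RingHom.ext fun r => ?_)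
    have hl : eB (Localization.localRingHom p.asIdeal q.asIdeal (algebraMap Γ(Z, U) Γ(W, ψ ⁻¹ᵁ U))
        (q.asIdeal.over_def p.asIdeal) (algebraMap _ _ r)) = algebraMap _ _ (algebraMap Γ(Z, U) Γ(W, ψ ⁻¹ᵁ U) r) := by
      rw [Localization.localRingHom_to_map]
      exact (IsLocalization.algEquiv q.asIdeal.primeCompl _ _).commutes _
    refine hl.trans ?_
    show _ = (ψ.stalkMap w).hom (eA (algebraMap _ _ r))
    rw [show eA (algebraMap _ _ r) = algebraMap _ _ r from (IsLocalization.algEquiv p.asIdeal.primeCompl _ _).commutes r]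
    exact (Scheme.Hom.germ_stalkMap_apply ψ U w hzU r).symm
  haveI : IsIntegrallyClosed (Localization.AtPrime p.asIdeal) := IsIntegrallyClosed.of_equiv eA.symm
  let I' := I.comap eA.toRingHom
  let K' := K.comap eB.toRingHom
  let eI : Localization.AtPrime p.asIdeal ⧸ I' ≃+* Z.presheaf.stalk (ψ.base w) ⧸ I :=
    Ideal.quotientEquiv I' I eA (Ideal.map_comap_of_surjective _ eA.surjective I).symm
  let eK : Localization.AtPrime q.asIdeal ⧸ K' ≃+* W.presheaf.stalk w ⧸ K :=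
    Ideal.quotientEquiv K' K eB (Ideal.map_comap_of_surjective _ eB.surjective K).symm
  haveI : IsLocalRing (Localization.AtPrime p.asIdeal ⧸ I') := eI.symm.isLocalRing
  haveI : IsLocalRing (Localization.AtPrime q.asIdeal ⧸ K') := eK.symm.isLocalRing
  rw [← BrnchLib.EtNbhd.numBranches_congr eI, ← BrnchLib.EtNbhd.numBranches_congr eK]
  have hback : ∀ Q : Ideal (Localization.AtPrime q.asIdeal), (Q.comap eB.symm.toRingHom).comap eB.toRingHom = Q := fun Q => by
    ext x
    simp [Ideal.mem_comap]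
  refine branches_le_atPrime _ _ hinj p.asIdeal q.asIdeal I' K' (fun Q hQ hKQ => ?_) (fun Q hQ hmin => ?_)
  · rw [← hback Q, Ideal.comap_comap, hsq, ← Ideal.comap_comap]
    refine Ideal.comap_mono (h1 _ inferInstance fun x hx => ?_)
    exact hKQ (show eB (eB.symm x) ∈ K by rwa [eB.apply_symm_apply])
  · rw [← hback Q, Ideal.comap_comap, hsq, ← Ideal.comap_comap] at hmin
    rw [← hback Q]
    refine Ideal.comap_mono (h2 _ inferInstance ?_)
    have hsurj : Function.Surjective eA.toRingHom := eA.surjective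
    refine ⟨⟨inferInstance, ?_⟩, fun P hP hle => ?_⟩
    · exact (Ideal.comap_le_comap_iff_of_surjective _ hsurj _ _).1 hmin.1.2
    · haveI := hP.1
      exact (Ideal.comap_le_comap_iff_of_surjective _ hsurj _ _).1
        (hmin.2 ⟨inferInstance, Ideal.comap_mono hP.2⟩ (Ideal.comap_mono hle))

end Groth.Agent.H26.Brn
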